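import Cfsg.Agent.H721.RC.RowsEven
import Cfsg.Agent.H675.RC.FrameE
import Cfsg.Agent.H679.RC.TriField
import Cfsg.Agent.H864.RC.Def3

/-!
# S3510, row `PΩ₈⁺(q)`: assembly from the types (helper721)

* `noN_of`, `noK_of` : `NoN`, `NoK` (helper864) from `NoCovEven`;
* `t3_of` : the frame (helper675) of type iii is a `T3` (helper864);
* `TypeI`, `TypeII`, `TypeIII`, `TypeIV` : the statements of the four types; `row8_of`.
-/

set_option autoImplicit false
open Cfsg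

namespace Cfsg.Agent.H721.RC

open Module QuadraticMap MulAction
open Cfsg.Agent.LieClassical.OrthCore Cfsg.Agent.LieClassical.OrthTrans
open Cfsg.Agent.LieClassical.OrthSimple Cfsg.Agent.ClassicalGeometry.OrthSemi
open Cfsg.Agent.ClassicalGeometry.OrthAut1 Cfsg.Agent.H106.RC Cfsg.Agent.H93.RC Cfsg.Agent.H566.RC
open Cfsg.Agent.LieClassical.QuadForms Cfsg.Agent.ClassicalGeometry.TrialityOct
open Cfsg.Agent.ClassicalGeometry.Triality Cfsg.Agent.ClassicalGeometry.TrialitySpaces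
open Cfsg.Agent.H198.TriBase Cfsg.Agent.H198.TriAut Cfsg.Agent.H206.Balance Cfsg.Agent.H198.TriDia
open Cfsg.Agent.H864.RC Cfsg.Agent.AutOrth.Main

section eng

variable {F : Type} [Field F] [Finite F] {G Ω : Type} [Group G] [Finite G] [MulAction G Ω] [Nonempty Ω]
  {N : Subgroup G} {σ : P8 F →* G}

theorem card_N (hσ : Rp (plusForm 4 F) N σ) : Nat.card (P8 F) = Nat.card N := by
  have h := MonoidHom.ofInjective hσ.inj
  rw [hσ.range] at h
  exact Nat.card_congr h.toEquiv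

theorem fin8 : finrank F (V8 F) = 8 := by
  rw [Module.finrank_fintype_fun_eq_card]; simp

/-- the engine with `up σ` -/
theorem no_cov_up (hN : NoCovEven) (hG : Good (plusForm 4 F)) (hE : Env G Ω N) (hσ : Rp (plusForm 4 F) N σ)
    (hIH : IH (Nat.card (P8 F))) {ι : Type} [Finite ι] {x : ι → G} {r : ι → ℕ} (hx : PF x r) (hcov : Cov Ω x)
    (hl : ∀ i, ∃ M : G8 F, Lf (up σ) (x i) M) : False := by
  choose M hM using hl
  exact hN hG hE hσ.rep hIH hM hx hcov (by rw [fin8]) (by rw [fin8]; decide)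

theorem noN_of (hN : NoCovEven) (hG : Good (plusForm 4 F)) (hE : Env G Ω N) (hσ : Rp (plusForm 4 F) N σ)
    (hIH : IH (Nat.card (P8 F))) : NoN Ω N := by
  intro κ _ y t hy hcov hmem
  refine no_cov_up hN hG hE hσ hIH hy hcov fun i => ?_
  have h1 : y i ∈ (up σ).range := by rw [hσ.rep.range]; exact hmem i
  obtain ⟨e, he⟩ := h1
  exact ⟨tg _ e, he ▸ Lf.tg e⟩

theorem noK_of (hN : NoCovEven) (hG : Good (plusForm 4 F)) (hE : Env G Ω N) (hσ : Rp (plusForm 4 F) N σ)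
    (hIH : IH (Nat.card (P8 F))) : NoK Ω σ := by
  intro κ _ y t hy hcov hmem
  refine no_cov_up hN hG hE hσ hIH hy hcov fun i => ?_
  obtain ⟨M, -, hM⟩ := hmem i
  exact ⟨M, hM⟩

/-- the frame of type iii is a `T3` -/
theorem t3_of (hG : Good (plusForm 4 F)) (hE : Env G Ω N) {ι : Type} [Finite ι] {x : ι → G} {r : ι → ℕ}
    (hx : PF x r) (hcov : Cov Ω x) {i₁ : ι} {ν : F ≃+* F} (hν : ν ≠ RingEquiv.refl F)
    (h3 : ∀ a, ν (ν (ν a)) = a) {M : ι → G8 F} (fr : H675.RC.Fr hG N x r σ i₁ (fG ν) M)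
    (hl : ∀ j, H198.TriDia.IsLin (M j)) :
    ∃ g : {j // j ≠ i₁} → (V8 F ≃ₗ[F] V8 F),
      T3 hG N σ ν Ω (x i₁) (fun j : {j // j ≠ i₁} => x j) (fun j => r j) g := by
  have hm := fun j : {j // j ≠ i₁} => fr.mem hE j.2 (hl j)
  choose g hg hgM hgx using hm
  have hinj : ∀ a b : ↥(E (plusForm 4 F)), tg (plusForm 4 F) a = tg (plusForm 4 F) b → a = b := by
    intro a b h
    apply Subtype.ext
    apply LinearEquiv.ext
    intro v
    have := congrArg (fun M : G8 F => M.1 v) h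
    exact this
  have hgp : ∀ j : {j // j ≠ i₁}, g j ^ r j = 1 := by
    intro j
    apply hinj
    rw [map_pow, hgM, fr.pow, map_one]
  have hgc : ∀ i j : {j // j ≠ i₁}, g i * g j = g j * g i := by
    intro i j
    apply hinj
    rw [map_mul, map_mul, hgM, hgM, fr.comm]
  have hg1 : ∀ j : {j // j ≠ i₁}, g j ≠ 1 := by
    intro j h
    apply fr.ne j j.2
    rw [← hgM, h, map_one]
  refine ⟨fun j => (g j : V8 F ≃ₗ[F] V8 F), ?_⟩
  exact
    { env := hE
      rp := fr.rp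
      cube := h3
      ne := hν
      tri := fr.la
      prime := fun i => hx.prime i
      inj := fun i j h => Subtype.ext (hx.inj h)
      three := fun i h => i.2 (hx.inj (h.trans fr.three.symm))
      mem := hg
      lift := fun i => hgx i
      pow := fun i => by
        have := congrArg Subtype.val (hgp i)
        simpa using this
      ne1 := fun i h => hg1 i (Subtype.ext h)
      comm := fun i j => by
        have := congrArg Subtype.val (hgc i j)
        exact this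
      cov := fun ω => by
        obtain ⟨i, hi⟩ := hcov ω
        by_cases h : i = i₁
        · left; rw [← h]; exact hi
        · exact Or.inr ⟨⟨i, h⟩, hi⟩ }

end eng

/-- type i: `τ = 1` -/
def TypeI : Prop :=
  ∀ {F : Type} [Field F] [Finite F] {G Ω : Type} [Group G] [Finite G] [MulAction G Ω] [Nonempty Ω]
    {N : Subgroup G} {σ : P8 F →* G} (hG : Good (plusForm 4 F)) (_ : Env G Ω N)
    (_ : IH (Nat.card (P (plusForm 4 F)))) {ι : Type} [Finite ι] {x : ι → G} {r : ι → ℕ} (_ : PF x r)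
    (_ : Cov Ω x) {i₁ : ι} {M : ι → G8 F} (_ : H675.RC.Fr hG N x r σ i₁ 1 M)
    (_ : ∀ j, H198.TriDia.IsLin (M j)), False

/-- type ii: `τ = tauB`, `p ≠ 3` -/
def TypeII : Prop :=
  ∀ {F : Type} [Field F] [Finite F] {G Ω : Type} [Group G] [Finite G] [MulAction G Ω] [Nonempty Ω]
    {N : Subgroup G} {σ : P8 F →* G} (hG : Good (plusForm 4 F)) (_ : Env G Ω N)
    (_ : IH (Nat.card (P (plusForm 4 F)))) {ι : Type} [Finite ι] {x : ι → G} {r : ι → ℕ} (_ : PF x r)
    (_ : Cov Ω x) {i₁ : ι} {M : ι → G8 F} (_ : H675.RC.Fr hG N x r σ i₁ (tauB F) M) (_ : (3 : F) ≠ 0)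
    (_ : ∀ j, H198.TriDia.IsLin (M j)), False

/-- type iii: `τ` is a field automorphism -/
def TypeIII : Prop :=
  ∀ {F : Type} [Field F] {G Ω ι : Type} [Group G] [MulAction G Ω] {N : Subgroup G} {hG : Good (plusForm 4 F)}
    {κ : P8 F →* G} {s : F ≃+* F} {x₁ : G} {x : ι → G} {r : ι → ℕ} {g : ι → (V8 F ≃ₗ[F] V8 F)}
    [Finite F] [Finite G] [Finite ι] [Nonempty Ω] (_ : T3 hG N κ s Ω x₁ x r g)
    (_ : IH (Nat.card N)) (_ : NoN Ω N), False

/-- type iv: `τ ≠ 1` linear, `p = 3` -/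
def TypeIV : Prop :=
  ∀ {F : Type} [Field F] [Finite F] {G Ω : Type} [Group G] [Finite G] [MulAction G Ω] [Nonempty Ω]
    {N : Subgroup G} {σ : P8 F →* G} (hG : Good (plusForm 4 F)) (_ : Env G Ω N)
    (_ : IH (Nat.card (P (plusForm 4 F)))) {ι : Type} [Finite ι] {x : ι → G} {r : ι → ℕ} (_ : PF x r)
    (_ : Cov Ω x) {i₁ : ι} {τ : G8 F} {M : ι → G8 F} (_ : H675.RC.Fr hG N x r σ i₁ τ M) (_ : (3 : F) = 0)
    (_ : H198.TriDia.IsLin τ) (_ : τ ≠ 1) (_ : ∀ j, H198.TriDia.IsLin (M j)) (_ : ∃ j, j ≠ i₁), False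

/-- no cover of `PΩ₈⁺(q)` at all -/
theorem no_cov8 (hN : NoCovEven) (h1 : TypeI) (h2 : TypeII) (h3 : TypeIII) (h4 : TypeIV)
    {F : Type} [Field F] [Finite F] {G Ω : Type} [Group G] [Finite G] [MulAction G Ω] [Nonempty Ω]
    {N : Subgroup G} {σ : P8 F →* G} (hG : Good (plusForm 4 F)) (hE : Env G Ω N) (hσ : Rp (plusForm 4 F) N σ)
    (hIH : IH (Nat.card (P8 F))) {ι : Type} [Finite ι] {x : ι → G} {r : ι → ℕ} (hx : PF x r) (hcov : Cov Ω x) :
    False := by
  by_cases hno : ∃ σ' : P8 F →* G, Rp (plusForm 4 F) N σ' ∧ ∀ i, ∃ M : G8 F, Lf (up σ') (x i) M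
  · obtain ⟨σ', hσ', hl⟩ := hno
    exact no_cov_up hN hG hE hσ' hIH hx hcov hl
  obtain ⟨x', σ', i₁, τ, M, -, -, hx', hfix, fr⟩ := H675.RC.frame hG hE hσ hx hno
  have hcov' : Cov Ω x' := fun ω => by
    obtain ⟨i, hi⟩ := hcov ω
    exact ⟨i, (hfix i ω).2 hi⟩
  by_cases hnl : ∃ i, i ≠ i₁ ∧ ¬ Cfsg.Agent.H93.RC.IsLin (M i)
  · exact H679.RC.TriField.box_field hG hE fr.rp hx' hcov' hIH fr.three fr.la (xt_not_mem hG τ) fr.lf hnl
  push Not at hnl
  have hl : ∀ j, H198.TriDia.IsLin (M j) := by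
    intro j
    by_cases hj : j = i₁
    · rw [hj, fr.one]
      exact H679.RC.TriField.lin_iff hG (fun a v => rfl)
    · exact H679.RC.TriField.lin_iff hG (hnl j hj)
  rcases fr.nf with h | ⟨h30, h⟩ | ⟨ν, hν, hν3, h⟩ | ⟨h30, hτl, hτ1, -⟩
  · subst h
    exact h1 hG hE hIH hx' hcov' fr hl
  · subst h
    exact h2 hG hE hIH hx' hcov' fr h30 hl
  · subst h
    obtain ⟨g, hg⟩ := t3_of hG hE hx' hcov' hν hν3 fr hl
    exact h3 hg (by rw [← card_N fr.rp]; exact hIH) (noN_of hN hG hE fr.rp hIH)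
  · by_cases hex : ∃ j, j ≠ i₁
    · exact h4 hG hE hIH hx' hcov' fr h30 hτl hτ1 hl hex
    · push Not at hex
      exact hx'.ne i₁ (hE.single fun ω => by
        obtain ⟨i, hi⟩ := hcov' ω
        rwa [hex i] at hi)

theorem row8_of (hN : NoCovEven) (h1 : TypeI) (h2 : TypeII) (h3 : TypeIII) (h4 : TypeIV) : Row8 := by
  intro S _ _ hS hSn hP hEx hIH
  obtain ⟨F, i1, i2, ⟨f⟩⟩ := hP
  have hG : Good (LieClassical.QuadForms.plusForm 4 F) := good_plus (by omega)
  have f' : S ≃* Cfsg.POmega F ⇑(LieClassical.QuadForms.plusForm 4 F) := by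
    rw [LieClassical.QuadForms.coe_plusForm]
    exact f
  have f8 : S ≃* P8 F := f'.trans (pe hG)
  apply rc_of_set hS hSn
  intro G _ _ Ω _ _ _ N hE e g
  by_contra hno
  push Not at hno
  obtain ⟨ι, _, x, r, hx, hcov, -, -⟩ := exists_cover hno
  obtain ⟨σ, hσ⟩ := exists_rp e f8
  exact no_cov8 hN h1 h2 h3 h4 hG hE hσ (by rw [← Nat.card_congr f8.toEquiv]; exact hIH) hx hcov

end Cfsg.Agent.H721.RC
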