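import Cfsg.Agent.H721.RC.FinalOf
import Cfsg.Agent.H864.RC.Fin3
import Cfsg.Agent.H721.RC.Mixed

/-!
# The regular cycle property for the classical groups, without hypotheses (helper721)

`typeIII`, `row8`, `rc_classical`.
-/

set_option autoImplicit false
open Cfsg

namespace Cfsg.Agent.H721.RC

open Cfsg.Agent.H106.RC

/-- triality elements of type iii -/
theorem typeIII : TypeIII :=
  Cfsg.Agent.H864.RC.typeIII_of (fun h hIH hN i₀ j₀ hi hj => Cfsg.Agent.H721.RC.Mix.dead_mixed h hIH hN i₀ j₀ hi hj)

/-- row `PΩ₈⁺(q)` -/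
theorem row8 : Row8 := row8_of noCovEven typeI typeII typeIII typeIV

/-- **all simple classical groups which are not `A₅`, `A₆`, `A₈` have the regular cycle property** -/
theorem rc_classical (S : Type) [Group S] [Finite S] (hS : IsSimpleGroup S) (hn : ¬ IsMulCommutative S)
    (hcl : Cl S) (he : ¬ Exc S) : RC S :=
  rc_of_rows H384.RC.row_psl_all H67.RC.row_psp H398.RC.row_psu_all H93.RC.row_odd
    (row_plus_of noCovEven row8) row_minus S hS hn hcl he

end Cfsg.Agent.H721.RC
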