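import Cfsg.Agent.H721.RC.RowsEven
import Cfsg.Agent.H520.RC.BoxB
import Cfsg.Agent.H338.RC.BoxCF
import Cfsg.Agent.H479.RC.BoxD5
import Cfsg.Agent.H237.RC.E0
import Cfsg.Agent.H406.RC.BoxE6
import Cfsg.Agent.H273.RC.FevE5
import Cfsg.Agent.H31.RC.BoxD4p

/-!
# S3510, row F, even dimension: the boxes proved by helper520, 338, 479, 237, 406, 31, 273 (helper721)
-/

set_option autoImplicit false
open Cfsg

namespace Cfsg.Agent.H721.RC

open QuadraticMap MulAction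
open Cfsg.Agent.LieClassical.OrthCore Cfsg.Agent.LieClassical.OrthTrans
open Cfsg.Agent.LieClassical.OrthSimple Cfsg.Agent.ClassicalGeometry.OrthSemi
open Cfsg.Agent.ClassicalGeometry.OrthAut1 Cfsg.Agent.H106.RC Cfsg.Agent.H93.RC

theorem boxB : BoxB := by
  intro F V _ _ _ _ _ Q G Ω _ _ _ _ N ρ hG hE hρ hIH p _ ι _ x M r hl hlin hx hcov h8 h82 W W' hWW hW hW' hi hi'
  exact H520.RC.box_B (p := p) hG hE hρ hIH hl hlin hx hcov h8 h82 W W' hWW hW hW' hi hi'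

theorem boxC : BoxC := by
  intro F V _ _ _ _ _ Q G Ω _ _ _ _ N ρ hG hE hρ hIH p _ ι _ x M r hl hlin hx hcov h8 κ s t h1 h2 h3 h4
  exact H338.RC.box_CF (p := p) hG hE hρ hIH hl hlin hx hcov h8 κ s t h1 h2 h3 h4

theorem boxD5 : BoxD5 := by
  intro F V _ _ _ _ _ Q G Ω _ _ _ _ N ρ hG hE hρ hIH p _ ι _ x M r hl hlin hx hcov h8 κ s t h1 h2 h3 h4 h5
  exact H479.RC.box_D5 (p := p) hG hE hρ hIH hl hlin hx hcov h8 κ s t h1 h2 h3 h4 h5

theorem boxD4p : BoxD4p := by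
  intro F V _ _ _ _ _ Q G Ω _ _ _ _ N ρ hG hE hρ hIH p _ ι _ x M r hl hlin hx hcov h8 κ s t h1 h2 h3 h4 h5 U h6 h7 h8' h9
  exact H31.RC.box_D4p_of (p := p) hG hE hρ hIH (H520.RC.lr_of hG hE hρ) hl hlin hx hcov h8 κ s t h1 h2 h3 h5 U h6 h7 h8' h9

theorem boxE0 : BoxE0 := by
  intro F V _ _ _ _ _ Q hG p _ M hM r hr hs
  exact H237.RC.box_E0 (p := p) hG M hM hr hs

theorem boxE6 : BoxE6 := by
  intro p F V _ _ _ _ _ Q G Ω _ _ _ _ N ρ hG hE hρ hIH _ ι _ x M r hl hx hcov h8 heven T hTO hTM hTr hTc hD hp2 i₀ hi₀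
  refine H406.RC.box_E6 (p := p) hG hE hρ hIH hl hx hcov h8 T hTO hTM hTr hTc ?_ hp2 i₀ hi₀
  obtain ⟨D, h1, h2, h3, h4⟩ := hD
  exact ⟨D, h1, h2, h3, fun f hf => h4 f hf⟩

/-- box E5 from helper551's two cases -/
theorem boxE5_of
    (h3 : ∀ {F V : Type} [Field F] [Finite F] [AddCommGroup V] [Module F V] [FiniteDimensional F V]
      {Q : QuadraticForm F V} {G Ω : Type} [Group G] [Finite G] [MulAction G Ω] [Nonempty Ω]
      {N : Subgroup G} {ρ : ↥(E Q) →* G} {p : ℕ} [CharP F p] {ι : Type} [Finite ι] {x : ι → G}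
      {M : ι → Gam Q} {r : ι → ℕ} {T : ι → V ≃ₗ[F] V},
      H273.RC.Fev.Sit Q N ρ Ω x M r T p → H273.RC.Fev.Case3 Q T → False)
    (h4 : ∀ {F V : Type} [Field F] [Finite F] [AddCommGroup V] [Module F V] [FiniteDimensional F V]
      {Q : QuadraticForm F V} {G Ω : Type} [Group G] [Finite G] [MulAction G Ω] [Nonempty Ω]
      {N : Subgroup G} {ρ : ↥(E Q) →* G} {p : ℕ} [CharP F p] {ι : Type} [Finite ι] {x : ι → G}
      {M : ι → Gam Q} {r : ι → ℕ} {T : ι → V ≃ₗ[F] V},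
      H273.RC.Fev.Sit Q N ρ Ω x M r T p → H273.RC.Fev.Case4 Q T → False) : BoxE5 := by
  intro p F V _ _ _ _ _ Q G Ω _ _ _ _ N ρ hG hE hρ hIH _ ι _ x M r hl hx hcov h8 heven T hTO hTM hTr hTc hD hp
  refine H273.RC.Fev.box_E5_of (p := p) hG hE hρ hIH (H520.RC.lr_of hG hE hρ) hl hx hcov h8 heven T hTO hTM hTr hTc ?_ hp
    (fun S hc => h3 S hc) (fun S hc => h4 S hc)
  obtain ⟨D, h1, h2, h3, h4⟩ := hD
  refine ⟨D, h1, h2, h3, fun i v hv => h4 (T i : V →ₗ[F] V) (fun j w => ?_) v hv⟩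
  exact LinearEquiv.congr_fun (hTc i j) w

end Cfsg.Agent.H721.RC
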