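import Cfsg.Agent.H93.RC.Defs

/-!
# S3510, row F, even dimension: rescaling of lifts, exact commutation (helper721)
-/

set_option autoImplicit false
open Cfsg

namespace Cfsg.Agent.H721.RC

open QuadraticMap MulAction
open Cfsg.Agent.LieClassical.OrthCore Cfsg.Agent.LieClassical.OrthTrans
open Cfsg.Agent.LieClassical.OrthSimple Cfsg.Agent.ClassicalGeometry.OrthSemi
open Cfsg.Agent.ClassicalGeometry.OrthAut1 Cfsg.Agent.H106.RC Cfsg.Agent.H93.RC

variable {F V : Type*} [Field F] [AddCommGroup V] [Module F V] {Q : QuadraticForm F V}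

/-- an isometry as a semisimilitude -/
def gamO (T : V ≃ₗ[F] V) (hT : T ∈ O Q) : Gam Q :=
  ⟨T.toEquiv, RingEquiv.refl F, 1, one_ne_zero, fun u v => map_add T u v, fun a v => map_smul T a v,
    fun v => by
      rw [one_mul]
      exact hT v⟩

theorem gamO_apply (T : V ≃ₗ[F] V) (hT : T ∈ O Q) (v : V) : (gamO T hT).1 v = T v := rfl

/-- semisimilitudes which differ by a scalar induce the same automorphism -/
theorem conjE_eq_of_smul {M L : Gam Q} {a : F} (ha : a ≠ 0) (h : ∀ v, M.1 v = a • L.1 v) :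
    conjE Q M = conjE Q L := by
  ext t v
  show (conjLin M t.1) v = (conjLin L t.1) v
  obtain ⟨w, rfl⟩ := L.1.surjective v
  rw [conjLin_apply']
  obtain ⟨σ, c, hM⟩ := M.2
  have h1 : L.1 w = M.1 (σ.symm a⁻¹ • w) := by
    rw [hM.smul, h, σ.apply_symm_apply, inv_smul_smul₀ ha]
  rw [h1, conjLin_apply', map_smul, hM.smul, σ.apply_symm_apply, h, inv_smul_smul₀ ha]

theorem Lf.rescale {G : Type*} [Group G] {ρ : ↥(E Q) →* G} {x : G} {M L : Gam Q} (hM : Lf ρ x M) {a : F}
    (ha : a ≠ 0) (h : ∀ v, M.1 v = a • L.1 v) : Lf ρ x L := by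
  intro t
  rw [hM t, conjE_eq_of_smul ha h]

/-- powers -/
theorem comm_pow {M L : Gam Q} (hL : IsLin L) {a : F} (h : ∀ v, M.1 (L.1 v) = a • L.1 (M.1 v)) (hM : IsLin M)
    (n : ℕ) : ∀ v, (M ^ n).1 (L.1 v) = a ^ n • L.1 ((M ^ n).1 v) := by
  induction n with
  | zero => intro v; rw [pow_zero, pow_zero, one_smul]; rfl
  | succ n ih =>
    intro v
    rw [pow_succ, pow_succ]
    have e1 : ∀ w, (M ^ n * M).1 w = (M ^ n).1 (M.1 w) := fun _ => rfl
    rw [e1, e1, h, mul_comm, mul_smul]
    have hlin : ∀ k : ℕ, IsLin (M ^ k) := by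
      intro k
      induction k with
      | zero => intro b w; rw [pow_zero]; rfl
      | succ k ihk =>
        intro b w
        rw [pow_succ]
        change (M ^ k).1 (M.1 (b • w)) = b • (M ^ k).1 (M.1 w)
        rw [hM, ihk]
    rw [hlin n, ih]

/-- lifts of coprime orders modulo scalars commute exactly -/
theorem comm_exact [Nontrivial V] {M L : Gam Q} (hM : IsLin M) (hL : IsLin L) {m n : ℕ} (hm : IsScal (M ^ m))
    (hn : IsScal (L ^ n)) (hmn : m.Coprime n) {a : F} (ha : a ≠ 0) (h : ∀ v, M.1 (L.1 v) = a • L.1 (M.1 v)) :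
    ∀ v, M.1 (L.1 v) = L.1 (M.1 v) := by
  have key : ∀ {M L : Gam Q} (_ : IsLin M) (_ : IsLin L) {m : ℕ} (_ : IsScal (M ^ m)) {a : F}
      (_ : ∀ v, M.1 (L.1 v) = a • L.1 (M.1 v)), a ^ m = 1 := by
    intro M L hM hL m hm a h
    obtain ⟨b, hb, hm⟩ := hm
    obtain ⟨v, hv⟩ := exists_ne (0 : V)
    have h1 := comm_pow hL h hM m v
    rw [hm, hm, hL, smul_smul, ← sub_eq_zero, ← sub_smul] at h1
    have h2 : L.1 v ≠ 0 := by
      intro h0
      obtain ⟨σ, c, hL'⟩ := L.2
      exact hv (L.1.injective (by rw [h0, hL'.map_zero]))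
    have h3 : b - a ^ m * b = 0 := (smul_eq_zero.1 h1).resolve_right h2
    have h4 : (1 - a ^ m) * b = 0 := by linear_combination h3
    exact (sub_eq_zero.1 ((mul_eq_zero.1 h4).resolve_right hb)).symm
  have h1 := key hM hL hm h
  have h2 : (a⁻¹) ^ n = 1 := key hL hM hn (fun v => by rw [h, inv_smul_smul₀ ha])
  rw [inv_pow, inv_eq_one] at h2
  have h3 : orderOf a ∣ 1 := by
    rw [← hmn]
    exact Nat.dvd_gcd (orderOf_dvd_of_pow_eq_one h1) (orderOf_dvd_of_pow_eq_one h2)
  have h4 : a = 1 := orderOf_eq_one_iff.1 (Nat.dvd_one.1 h3)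
  intro v
  rw [h, h4, one_smul]

/-- a linear semisimilitude as a linear map -/
def linOf (M : Gam Q) (hM : IsLin M) : V →ₗ[F] V where
  toFun v := M.1 v
  map_add' u v := by
    obtain ⟨σ, c, h⟩ := M.2
    exact h.add u v
  map_smul' a v := hM a v

theorem linOf_apply (M : Gam Q) (hM : IsLin M) (v : V) : linOf M hM v = M.1 v := rfl

theorem polar_of_form {M : Gam Q} {c : F} (h : ∀ v, Q (M.1 v) = c * Q v) (v w : V) :
    polar Q (M.1 v) (M.1 w) = c * polar Q v w := by
  obtain ⟨σ, d, hM⟩ := M.2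
  rw [polar, polar, ← hM.add, h, h, h]
  ring

/-- eigenspaces of a linear map with `κ² = d²` -/
theorem isCompl_eig (h2 : (2 : F) ≠ 0) {κ : V →ₗ[F] V} {d : F} (hd : d ≠ 0)
    (h : ∀ v, κ (κ v) = (d * d) • v) :
    IsCompl (LinearMap.ker (κ - d • LinearMap.id)) (LinearMap.ker (κ + d • LinearMap.id)) := by
  rw [isCompl_iff]
  constructor
  · rw [Submodule.disjoint_def]
    intro v h1 h3
    simp only [LinearMap.mem_ker, LinearMap.sub_apply, LinearMap.add_apply, LinearMap.smul_apply,
      LinearMap.id_coe, id_eq] at h1 h3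
    have h4 : (2 * d) • v = 0 := by
      rw [mul_smul, two_smul]
      have h5 := congrArg₂ (· - ·) h3 h1
      simp only [sub_zero] at h5
      rw [← h5]; abel
    exact (smul_eq_zero.1 h4).resolve_left (mul_ne_zero h2 hd)
  · rw [codisjoint_iff, eq_top_iff]
    intro v _
    have e : v = (2 * d)⁻¹ • (κ v + d • v) + (-(2 * d)⁻¹) • (κ v - d • v) := by
      match_scalars
      · field_simp
        norm_num
      · ring
    rw [e]
    apply Submodule.add_mem
    · apply Submodule.mem_sup_left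
      apply Submodule.smul_mem
      simp only [LinearMap.mem_ker, LinearMap.sub_apply, LinearMap.smul_apply, LinearMap.id_coe, id_eq, map_add,
        map_smul, h]
      module
    · apply Submodule.mem_sup_right
      apply Submodule.smul_mem
      simp only [LinearMap.mem_ker, LinearMap.add_apply, LinearMap.smul_apply, LinearMap.id_coe, id_eq, map_sub,
        map_smul, h]
      module

end Cfsg.Agent.H721.RC
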