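import Cfsg.Agent.H721.RC.EvenStmt
import Cfsg.Agent.H721.RC.EvenBase
import Cfsg.Agent.H236.RC.FA

/-!
# S3510, row F, even dimension `≥ 8`: assembly from the boxes (helper721)

`no_cov_even_of` : no family of commuting elements of different prime orders with semisimilar lifts covers.
-/

set_option autoImplicit false
open Cfsg

namespace Cfsg.Agent.H721.RC

open QuadraticMap MulAction
open Cfsg.Agent.LieClassical.OrthCore Cfsg.Agent.LieClassical.OrthTrans
open Cfsg.Agent.LieClassical.OrthSimple Cfsg.Agent.ClassicalGeometry.OrthSemi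
open Cfsg.Agent.ClassicalGeometry.OrthAut1 Cfsg.Agent.H106.RC Cfsg.Agent.H93.RC

section

variable {F V : Type} [Field F] [Finite F] [AddCommGroup V] [Module F V] [FiniteDimensional F V]
  {Q : QuadraticForm F V} {G Ω : Type} [Group G] [Finite G] [MulAction G Ω] [Nonempty Ω]
  {N : Subgroup G} {ρ : ↥(E Q) →* G}

/-- the commutation of two members with different primes -/
theorem lift_comm (hG : Good Q) (hρ : Rep Q N ρ) {ι : Type} {x : ι → G} {M : ι → Gam Q} {r : ι → ℕ}
    (hl : ∀ i, Lf ρ (x i) (M i)) (hlin : ∀ i, IsLin (M i)) (hx : PF x r) (i j : ι) :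
    ∀ v, (M i).1 ((M j).1 v) = (M j).1 ((M i).1 v) := by
  classical
  by_cases hij : i = j
  · subst hij
    intro v; rfl
  have hnt : Nontrivial V := by
    have := hG.dim
    exact Module.nontrivial_of_finrank_pos (R := F) (by omega)
  obtain ⟨a, ha, h⟩ := (hl i).comm hG hρ (hl j) (hx.comm i j)
  exact comm_exact (hlin i) (hlin j) ((hl i).pow_scal hG hρ (hx.pow i)) ((hl j).pow_scal hG hρ (hx.pow j))
    ((Nat.coprime_primes (hx.prime i) (hx.prime j)).2 fun h => hij (hx.inj h)) ha h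

/-- some member is not a scalar multiple of an isometry -/
theorem no_cov_skew (hB : BoxB) (hC : BoxC) (hD5 : BoxD5) (hD4m : BoxD4m) (hD4p : BoxD4p)
    (hG : Good Q) (hE : Env G Ω N) (hρ : Rep Q N ρ) (hIH : IH (Nat.card (P Q))) {p : ℕ} [CharP F p] {ι : Type}
    [Finite ι] {x : ι → G} {M : ι → Gam Q} {r : ι → ℕ} (hl : ∀ i, Lf ρ (x i) (M i)) (hlin : ∀ i, IsLin (M i))
    (hx : PF x r) (hcov : Cov Ω x) (h8 : 8 ≤ Module.finrank F V) (heven : Even (Module.finrank F V))
    (i₀ : ι) (hr2 : r i₀ = 2) (hp2 : p ≠ 2) {c : F} (hc0 : c ≠ 0) (hsq : ∀ v, (M i₀).1 ((M i₀).1 v) = c • v)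
    (hc : (∀ v, Q ((M i₀).1 v) = -c * Q v) ∨ ((∀ v, Q ((M i₀).1 v) = c * Q v) ∧ ¬ IsSquare c)) : False := by
  classical
  have h2 : (2 : F) ≠ 0 := by
    intro h
    apply hp2
    have h1 : (p : ℕ) ∣ 2 := (CharP.cast_eq_zero_iff F p 2).1 (by exact_mod_cast h)
    rcases (Nat.dvd_prime Nat.prime_two).1 h1 with h3 | h3
    · exact (CharP.char_ne_one F p h3).elim
    · exact h3
  have hcom := lift_comm hG hρ hl hlin hx
  let κ : V →ₗ[F] V := linOf (M i₀) (hlin i₀)
  have hκ : ∀ v, κ v = (M i₀).1 v := fun v => rfl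
  have hκ2 : ∀ v, κ (κ v) = (0 : F) • κ v - (-c) • v := by
    intro v
    rw [zero_smul, zero_sub, neg_smul, neg_neg]
    exact hsq v
  have hκcom : ∀ i v, (M i).1 (κ v) = κ ((M i).1 v) := fun i v => hcom i i₀ v
  have hirr : ¬ IsSquare c → ∀ a : F, a * a - 0 * a + -c ≠ 0 := by
    intro hns a h
    apply hns
    exact ⟨a, by linear_combination -h⟩
  rcases hc with hc | ⟨hc, hns⟩
  · by_cases hs : IsSquare c
    · obtain ⟨d, rfl⟩ := hs
      have hd : d ≠ 0 := fun h => hc0 (by rw [h, mul_zero])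
      have hsing : ∀ e : F, e * e = d * d → ∀ v, κ v = e • v → Q v = 0 := by
        intro e he v hv
        have h1 := hc v
        rw [← hκ, hv, QuadraticMap.map_smul, smul_eq_mul, he] at h1
        have h3 : 2 * (d * d) * Q v = 0 := by linear_combination h1
        rcases mul_eq_zero.1 h3 with h4 | h4
        · rcases mul_eq_zero.1 h4 with h5 | h5
          · exact (h2 h5).elim
          · exact (hc0 h5).elim
        · exact h4
      refine hB hG hE hρ hIH (p := p) hl hlin hx hcov h8 ?_ _ _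
        (isCompl_eig h2 hd (κ := κ) (fun v => hsq v)) ?_ ?_ ?_ ?_
      · rintro ⟨hF, -⟩
        apply hp2
        have : CharP F 2 := by
          have h3 : Fintype F := Fintype.ofFinite F
          have h4 : Fintype.card F = 2 := by rw [← Nat.card_eq_fintype_card]; exact hF
          exact charP_of_card_eq_prime h4
        exact CharP.eq F ‹CharP F p› this
      · intro v hv
        simp only [LinearMap.mem_ker, LinearMap.sub_apply, LinearMap.smul_apply, LinearMap.id_coe, id_eq] at hv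
        exact hsing d rfl v (sub_eq_zero.1 hv)
      · intro v hv
        simp only [LinearMap.mem_ker, LinearMap.add_apply, LinearMap.smul_apply, LinearMap.id_coe, id_eq] at hv
        exact hsing (-d) (by ring) v (by rw [neg_smul]; exact eq_neg_of_add_eq_zero_left hv)
      · intro i v hv
        simp only [LinearMap.mem_ker, LinearMap.sub_apply, LinearMap.smul_apply, LinearMap.id_coe, id_eq] at hv ⊢
        rw [← hκcom, sub_eq_zero.1 hv, hlin, sub_self]
      · intro i v hv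
        simp only [LinearMap.mem_ker, LinearMap.add_apply, LinearMap.smul_apply, LinearMap.id_coe, id_eq] at hv ⊢
        rw [← hκcom, eq_neg_of_add_eq_zero_left hv, ← neg_smul, hlin, neg_smul, neg_add_cancel]
    · exact hC hG hE hρ hIH (p := p) hl hlin hx hcov h8 κ 0 (-c) hκ2 (hirr hs) (fun v => hc v) hκcom
  · have hadj : ∀ v w, polar Q (κ v) w = polar Q v (κ w) := by
      intro v w
      have h3 : w = κ (c⁻¹ • κ w) := by
        rw [map_smul, hκ (κ w), hκ w, hsq, inv_smul_smul₀ hc0]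
      conv_lhs => rw [h3]
      rw [hκ v, hκ (c⁻¹ • κ w), polar_of_form hc, polar_smul_right, smul_eq_mul, mul_inv_cancel_left₀ hc0]
    have h20 : (2 : F) = 0 → ∀ v, polar Q v (κ v) = 0 := fun h => (h2 h).elim
    rcases Nat.lt_or_ge (Module.finrank F V) 10 with hlt | hge
    · have h8' : Module.finrank F V = 8 := by
        obtain ⟨k, hk⟩ := heven
        omega
      by_cases hU : ∃ U : Submodule F V, (∀ v ∈ U, Q v = 0) ∧ (∀ v ∈ U, κ v ∈ U) ∧ Module.finrank F U = 4
      · obtain ⟨U, hU1, hU2, hU3⟩ := hU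
        refine hD4p hG hE hρ hIH (p := p) hl hlin hx hcov h8' κ 0 (-c) hκ2 (hirr hns) hadj h20 hκcom U hU1 hU2 hU3
          ?_
        intro i hi
        have : i = i₀ := hx.inj (by rw [hi, hr2])
        subst this
        exact Or.inl ⟨0, 1, fun v => by rw [zero_smul, one_smul, zero_add]; rfl⟩
      · push Not at hU
        exact hD4m hG hE hρ hIH (p := p) hl hlin hx hcov h8' κ 0 (-c) hκ2 (hirr hns) hadj h20 hκcom hU
    · exact hD5 hG hE hρ hIH (p := p) hl hlin hx hcov hge κ 0 (-c) hκ2 (hirr hns) hadj h20 hκcom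

/-- **The even row, given semisimilar lifts.** -/
theorem no_cov_even_of (hB : BoxB) (hC : BoxC) (hD5 : BoxD5) (hD4m : BoxD4m) (hD4p : BoxD4p) (hE0 : BoxE0)
    (hH : BoxH) (hE5 : BoxE5) (hE6 : BoxE6) (hE7 : BoxE7)
    (hG : Good Q) (hE : Env G Ω N) (hρ : Rep Q N ρ) (hIH : IH (Nat.card (P Q))) {ι : Type}
    [Finite ι] {x : ι → G} {M : ι → Gam Q} {r : ι → ℕ} (hl : ∀ i, Lf ρ (x i) (M i))
    (hx : PF x r) (hcov : Cov Ω x) (h8 : 8 ≤ Module.finrank F V) (heven : Even (Module.finrank F V)) : False := by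
  classical
  by_cases hnl : ∃ i, ¬ IsLin (M i)
  · exact H236.RC.box_FA' hG (by omega) hE hρ hl hx hcov hIH hnl
  push Not at hnl
  obtain ⟨p, hp⟩ := CharP.exists F
  have hpw : ∀ i, IsScal (M i ^ r i) := fun i => (hl i).pow_scal hG hρ (hx.pow i)
  have h0 := fun i => hE0 hG (p := p) (M i) (hnl i) (hx.prime i) (hpw i)
  by_cases hsk : ∃ i, r i = 2 ∧ p ≠ 2 ∧ ∃ c : F, c ≠ 0 ∧ (∀ v, (M i).1 ((M i).1 v) = c • v) ∧
      ((∀ v, Q ((M i).1 v) = -c * Q v) ∨ ((∀ v, Q ((M i).1 v) = c * Q v) ∧ ¬ IsSquare c))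
  · obtain ⟨i₀, h1, h2, c, h3, h4, h5⟩ := hsk
    exact no_cov_skew hB hC hD5 hD4m hD4p hG hE hρ hIH hl hnl hx hcov h8 heven i₀ h1 h2 h3 h4 h5
  have h1 : ∀ i, ∃ (T : V ≃ₗ[F] V) (a : F), T ∈ O Q ∧ T ^ r i = 1 ∧ a ≠ 0 ∧ ∀ v, (M i).1 v = a • T v := by
    intro i
    rcases h0 i with h | h
    · exact h
    · exact (hsk ⟨i, h⟩).elim
  choose T a hTO hTr ha hT using h1
  let M' : ι → Gam Q := fun i => gamO (T i) (hTO i)
  have hl' : ∀ i, Lf ρ (x i) (M' i) := fun i => Lf.rescale (hl i) (ha i) (fun v => hT i v)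
  have hlin' : ∀ i, IsLin (M' i) := fun i b v => map_smul (T i) b v
  have hTc : ∀ i j, T i * T j = T j * T i := by
    intro i j
    apply LinearEquiv.ext
    intro v
    exact lift_comm hG hρ hl' hlin' hx i j v
  have hD := hH p hG hE hρ hIH hl' hx hcov h8 heven T hTO (fun i v => rfl) hTr hTc
  by_cases hpr : ∃ i, r i = p
  · obtain ⟨i₀, hi₀⟩ := hpr
    by_cases hp2 : p = 2
    · subst hp2
      exact hE7 hG hE hρ hIH hl' hx hcov h8 heven T hTO (fun i v => rfl) hTr hTc hD i₀ hi₀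
    · exact hE6 p hG hE hρ hIH hl' hx hcov h8 heven T hTO (fun i v => rfl) hTr hTc hD hp2 i₀ hi₀
  · push Not at hpr
    exact hE5 p hG hE hρ hIH hl' hx hcov h8 heven T hTO (fun i v => rfl) hTr hTc hD hpr

end

end Cfsg.Agent.H721.RC
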