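import Cfsg.Agent.H721.RC.Boxes
import Cfsg.Agent.H457.RC.BoxD4m
import Cfsg.Agent.H170.RC.Four
import Cfsg.Agent.H93.RC.BoxH
import Cfsg.Agent.H578.RC.E7
import Cfsg.Agent.H551.E5.Case3
import Cfsg.Agent.H551.E5.Case4

/-!
# S3510, row F, even dimension: the engine `NoCovEven` and the rows `PΩ⁻`, `PΩ⁺` (helper721)
-/

set_option autoImplicit false
open Cfsg

namespace Cfsg.Agent.H721.RC

open QuadraticMap MulAction
open Cfsg.Agent.LieClassical.OrthCore Cfsg.Agent.LieClassical.OrthTrans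
open Cfsg.Agent.LieClassical.OrthSimple Cfsg.Agent.ClassicalGeometry.OrthSemi
open Cfsg.Agent.ClassicalGeometry.OrthAut1 Cfsg.Agent.H106.RC Cfsg.Agent.H93.RC

theorem boxD4m : BoxD4m := by
  intro F V _ _ _ _ _ Q G Ω _ _ _ _ N ρ hG hE hρ hIH p _ ι _ x M r hl hlin hx hcov h8 κ s t h1 h2 h3 h4 h5 h6
  refine H457.RC.box_D4m_of (p := p) (fun K _ _ _ _ R hR hR4 hm => ?_) hG hE hρ hIH (H520.RC.lr_of hG hE hρ) hl hlin
    hx hcov h8 κ s t h1 h2 h3 h5 h6
  have h := H170.RC.Minus4.of_le_one hR hR4 hm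
  exact ⟨h.commutator_E, h.commutator_eq_E.le, h.scal, h.exists_K⟩

theorem boxH : BoxH := box_H_of boxB boxC boxD5 boxD4m boxD4p

theorem boxE7 : BoxE7 := by
  intro F V _ _ _ _ _ Q G Ω _ _ _ _ N ρ hG hE hρ hIH _ ι _ x M r hl hx hcov h8 heven T hTO hTM hTr hTc hD i₀ hi₀
  refine H578.RC.box_E7 hG hE hρ hIH hl hx hcov h8 heven T hTO hTM hTr hTc ?_ i₀ hi₀
  obtain ⟨D, h1, h2, h3, h4⟩ := hD
  exact ⟨D, h1, h2, h3, fun f hf => h4 f hf⟩

/-- the engine, from box E5 -/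
theorem noCovEven_of (hE5 : BoxE5) : NoCovEven := by
  intro F V _ _ _ _ _ Q G Ω _ _ _ _ N ρ hG hE hρ hIH ι _ x M r hl hx hcov h8 heven
  exact no_cov_even_of boxB boxC boxD5 boxD4m boxD4p boxE0 boxH hE5 boxE6 boxE7 hG hE hρ hIH hl hx hcov h8 heven

theorem boxE5 : BoxE5 :=
  boxE5_of (fun S h => H551.E5.case3 S h) (fun S h => H551.E5.case4 S h)

/-- **the engine**: no cover by commuting elements of different prime orders with semisimilar lifts, `n ≥ 8` even -/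
theorem noCovEven : NoCovEven := noCovEven_of boxE5

theorem row_minus : Row (fun S _ => IsPOmegaMinus S) := row_minus_of noCovEven

end Cfsg.Agent.H721.RC
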