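import Cfsg.Agent.H106.RC.Exc
import Cfsg.Agent.H398.RC.RowUAll
import Cfsg.Agent.H384.RC.RowPSL
import Cfsg.Agent.H67.RC.RowD
import Cfsg.Agent.H93.RC.Odd
import Cfsg.Agent.H721.RC.RowsFinal
import Cfsg.Agent.H721.RC.Row8
import Cfsg.Agent.H566.RC.TypeI
import Cfsg.Agent.H911.RC.TypeIV
import Cfsg.Agent.H442.RC.TypeII

/-!
# S3510: the statement from type iii of the triality part (helper721)
-/

set_option autoImplicit false
open Cfsg

namespace Cfsg.Agent.H721.RC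

open Cfsg.Agent.H106.RC

theorem typeI : TypeI := by
  intro F _ _ G Ω _ _ _ _ N σ hG hE hIH ι _ x r hx hcov i₁ M fr hl
  exact H566.RC.type_i hG hE hIH hx hcov fr hl

theorem typeIV : TypeIV := by
  intro F _ _ G Ω _ _ _ _ N σ hG hE hIH ι _ x r hx hcov i₁ τ M fr h3 hτ hτ1 hl hex
  exact H911.RC.type_iv hG hE hIH hx hcov fr h3 hτ hl

theorem typeII : TypeII := by
  intro F _ _ G Ω _ _ _ _ N σ hG hE hIH ι _ x r hx hcov i₁ M fr h3 hl
  exact H442.RC.TriB.type_ii hG hE hIH hx hcov fr h3 hl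

theorem final_of.{u, v} (h3 : TypeIII)
    {G : Type u} [Group G] [Finite G] {Ω : Type v} [Fintype Ω] [MulAction G Ω] [FaithfulSMul G Ω]
    (T : Subgroup G) [T.Normal] (hT : IsSimpleGroup T) (hTc : ¬ IsMulCommutative T)
    (hC : Subgroup.centralizer (T : Set G) = ⊥)
    (hcl : (Cfsg.IsPSL T ∨ Cfsg.IsPSp T ∨ Cfsg.IsPSU T ∨ Cfsg.IsPOmegaOdd T ∨ Cfsg.IsPOmegaPlus T ∨ Cfsg.IsPOmegaMinus T))
    (hprim : MulAction.IsPreprimitive G Ω) (g : G)
    (hg : ∀ ω : Ω, MulAction.stabilizer (Subgroup.zpowers g) ω ≠ ⊥) :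
    (Nonempty (T ≃* alternatingGroup (Fin 5)) ∧ Fintype.card Ω = 5) ∨
    (Nonempty (T ≃* alternatingGroup (Fin 6)) ∧ Fintype.card Ω = 6) ∨
    (Nonempty (T ≃* alternatingGroup (Fin 8)) ∧ Fintype.card Ω = 8) :=
  s3510_of (rc_of_rows H384.RC.row_psl_all H67.RC.row_psp H398.RC.row_psu_all H93.RC.row_odd
    (row_plus_of noCovEven (row8_of noCovEven typeI typeII h3 typeIV)) row_minus)
    excStmt T hT hTc hC hcl hprim g hg

end Cfsg.Agent.H721.RC
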