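import Cfsg.Agent.H721.RC.Even
import Cfsg.Agent.AutOrth.Final

/-!
# S3510, rows `PΩ⁻_{2m}(q)`, `PΩ⁺_{2m}(q)` (`m ≥ 5`) from the boxes (helper721)
-/

set_option autoImplicit false
open Cfsg

namespace Cfsg.Agent.H721.RC

open QuadraticMap MulAction
open Cfsg.Agent.LieClassical.OrthCore Cfsg.Agent.LieClassical.OrthTrans
open Cfsg.Agent.LieClassical.OrthSimple Cfsg.Agent.ClassicalGeometry.OrthSemi
open Cfsg.Agent.ClassicalGeometry.OrthAut1 Cfsg.Agent.H106.RC Cfsg.Agent.H93.RC
open Cfsg.Agent.AutOrth.Main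

/-- the engine of the even rows: no cover with semisimilar lifts -/
def NoCovEven : Prop :=
  ∀ {F V : Type} [Field F] [Finite F] [AddCommGroup V] [Module F V] [FiniteDimensional F V]
    {Q : QuadraticForm F V} {G Ω : Type} [Group G] [Finite G] [MulAction G Ω] [Nonempty Ω]
    {N : Subgroup G} {ρ : ↥(E Q) →* G} (_ : Good Q) (_ : Env G Ω N) (_ : Rep Q N ρ)
    (_ : IH (Nat.card (P Q))) {ι : Type} [Finite ι] {x : ι → G} {M : ι → Gam Q} {r : ι → ℕ}
    (_ : ∀ i, Lf ρ (x i) (M i)) (_ : PF x r) (_ : Cov Ω x) (_ : 8 ≤ Module.finrank F V)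
    (_ : Even (Module.finrank F V)), False

/-- all automorphisms of `P Q` are induced by semisimilitudes -/
theorem rc_of_surjective (hN : NoCovEven) {F V : Type} [Field F] [Finite F] [AddCommGroup V] [Module F V]
    [FiniteDimensional F V] {Q : QuadraticForm F V} (hG : Good Q) (h8 : 8 ≤ Module.finrank F V)
    (heven : Even (Module.finrank F V)) (hs : Function.Surjective (Psi Q)) {S : Type} [Group S] [Finite S]
    (hS : IsSimpleGroup S) (hSn : ¬ IsMulCommutative S) (f : S ≃* P Q) (hIH : IH (Nat.card S)) : RC S := by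
  classical
  apply rc_of_set hS hSn
  intro G _ _ Ω _ _ _ N hE e g
  by_contra hno
  push Not at hno
  obtain ⟨ι, _, x, r, hx, hcov, -, -⟩ := exists_cover hno
  obtain ⟨ρ, hρ⟩ := exists_rep (N := N) e f
  choose M hM using fun i => exists_Lf hE.norm hρ hs (x i)
  exact hN hG hE hρ (by rw [← Nat.card_congr f.toEquiv]; exact hIH) hM hx hcov h8 heven

/-- row `PΩ⁻_{2m}(q)`, `m ≥ 4` -/
theorem row_minus_of (hN : NoCovEven) : Row (fun S _ => IsPOmegaMinus S) := by
  intro S _ _ hS hSn hP _ hIH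
  obtain ⟨F, i1, i2, m, a, b, hm, hab, ⟨f⟩⟩ := hP
  have hG : Good (LieClassical.QuadForms.minusForm (m - 1) F a b) := good_minus (by omega) hab
  have hs := AutOrth.Final.surjective_minus (F := F) (m := m - 1) (by omega) hab
  rw [minusForm_eq] at hs
  have f' : S ≃* Cfsg.POmega F ⇑(LieClassical.QuadForms.minusForm (m - 1) F a b) := by
    rw [LieClassical.QuadForms.coe_minusForm]
    exact f
  refine rc_of_surjective hN hG ?_ ?_ hs hS hSn (f'.trans (pe hG)) hIH
  · rw [Module.finrank_fintype_fun_eq_card]; simp; omega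
  · rw [Module.finrank_fintype_fun_eq_card]
    simp only [Fintype.card_sum, Fintype.card_fin]
    exact ⟨m - 1 + 1, by omega⟩

/-- `PΩ⁺_8(q)` -/
def Row8 : Prop := Row (fun S _ => ∃ (F : Type) (_ : Field F) (_ : Fintype F),
  Nonempty (S ≃* POmega F (quadFormPlus 4 F)))

/-- row `PΩ⁺_{2m}(q)`, `m ≥ 4`; `m = 4` is a hypothesis -/
theorem row_plus_of (hN : NoCovEven) (h8 : Row8) : Row (fun S _ => IsPOmegaPlus S) := by
  intro S _ _ hS hSn hP hEx hIH
  obtain ⟨F, i1, i2, m, hm, ⟨f⟩⟩ := hP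
  rcases Nat.lt_or_ge m 5 with hlt | hge
  · have hm4 : m = 4 := by omega
    subst hm4
    exact h8 S hS hSn ⟨F, i1, i2, ⟨f⟩⟩ hEx hIH
  have hG : Good (LieClassical.QuadForms.plusForm m F) := good_plus (by omega)
  have hs := AutOrth.Final.surjective_plus (F := F) (m := m) hge
  rw [plusForm_eq] at hs
  have f' : S ≃* Cfsg.POmega F ⇑(LieClassical.QuadForms.plusForm m F) := by
    rw [LieClassical.QuadForms.coe_plusForm]
    exact f
  refine rc_of_surjective hN hG ?_ ?_ hs hS hSn (f'.trans (pe hG)) hIH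
  · rw [Module.finrank_fintype_fun_eq_card]; simp; omega
  · rw [Module.finrank_fintype_fun_eq_card]
    simp only [Fintype.card_sum, Fintype.card_fin]
    exact ⟨m, by omega⟩

end Cfsg.Agent.H721.RC
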